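/-
Element orders in finite linear groups.
* `exists_dvd_card_pow_sub_one`: a prime power order, prime to the characteristic, of an element of `GL_n(q)`
  divides `q^d - 1` for some `1 ≤ d ≤ n`.
* `exists_gl_orderOf`: for `1 ≤ d ≤ n`, `GL_n(q)` has an element of order `q^d - 1`.
* `orderOf_range_pi_eq`: powers of a direct product whose element orders are the divisors of the exponent.
-/
import Cfsg.Agent.EqLemmas

set_option autoImplicit false
set_option linter.style.haveILetI false
set_option linter.unusedSimpArgs false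

namespace Cfsg.Agent.LinSpec

open Polynomial

/-- If `y` is an element of a finite group and `m` divides its order, some power of `y` has order `m`. -/
theorem exists_orderOf_eq_of_dvd {G : Type*} [Group G] [Finite G] {y : G} {m : ℕ}
    (h : m ∣ orderOf y) : ∃ z : G, orderOf z = m :=
  ⟨y ^ (orderOf y / m), orderOf_pow_orderOf_div (orderOf_pos y).ne' h⟩

/-- If `G^i` has an element whose order is a multiple of all element orders of `G`, then so does `G^k` for
`i ≤ k`, and the two direct powers have the same element orders. -/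
theorem orderOf_range_pi_eq {G : Type*} [Group G] [Finite G] {i k : ℕ} (hik : i ≤ k)
    (y : Fin i → G) (hy : ∀ g : G, orderOf g ∣ orderOf y) :
    Set.range (orderOf : (Fin k → G) → ℕ) = Set.range (orderOf : (Fin i → G) → ℕ) := by
  ext m
  constructor
  · rintro ⟨x, rfl⟩
    refine exists_orderOf_eq_of_dvd (y := y) (orderOf_dvd_iff_pow_eq_one.2 ?_)
    funext j
    simpa using orderOf_dvd_iff_pow_eq_one.1 (hy (x j))
  · rintro ⟨x, rfl⟩
    refine ⟨fun j => if h : (j : ℕ) < i then x ⟨j, h⟩ else 1, ?_⟩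
    refine Nat.dvd_antisymm (orderOf_dvd_iff_pow_eq_one.2 ?_) (orderOf_dvd_iff_pow_eq_one.2 ?_)
    · funext j
      by_cases h : (j : ℕ) < i
      · simpa [h] using congrFun (pow_orderOf_eq_one x) ⟨j, h⟩
      · simp [h]
    · funext j
      have := congrFun (pow_orderOf_eq_one (fun j : Fin k => if h : (j : ℕ) < i then x ⟨j, h⟩ else 1))
        (Fin.castLE hik j)
      simpa using this

/-- A squarefree polynomial all of whose irreducible factors divide `b` divides `b`. -/
theorem squarefree_dvd_of_irreducible_dvd {F : Type*} [Field F] {μ b : F[X]} (hμ : Squarefree μ)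
    (h : ∀ f, Irreducible f → f ∣ μ → f ∣ b) : μ ∣ b := by
  classical
  obtain ⟨c, hc⟩ := EuclideanDomain.gcd_dvd_left μ b
  by_cases hu : IsUnit c
  · refine dvd_trans ?_ (EuclideanDomain.gcd_dvd_right μ b)
    obtain ⟨u, rfl⟩ := hu
    exact ⟨(↑u⁻¹ : F[X]), (Units.eq_mul_inv_iff_mul_eq u).2 hc.symm⟩
  · have hc0 : c ≠ 0 := by rintro rfl; exact hμ.ne_zero (by simpa using hc)
    obtain ⟨f, hf, hfc⟩ := WfDvdMonoid.exists_irreducible_factor hu hc0
    have hfμ : f ∣ μ := hfc.trans (Dvd.intro_left _ hc.symm)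
    have hfg : f ∣ EuclideanDomain.gcd μ b := EuclideanDomain.dvd_gcd hfμ (h f hf hfμ)
    exact absurd (hμ f (hc ▸ mul_dvd_mul hfg hfc)) hf.not_isUnit

/-- A prime power order `p^e`, `p ≠ char F`, of an invertible `n × n` matrix over a finite field with `q`
elements divides `q^d - 1` for some `1 ≤ d ≤ n`. -/
theorem exists_dvd_card_pow_sub_one {F : Type*} [Field F] [Finite F] {n p e : ℕ} (hp : p.Prime)
    (hpF : (p : F) ≠ 0) (x : Matrix (Fin n) (Fin n) F) (hx : orderOf x = p ^ (e + 1)) :
    ∃ d, 1 ≤ d ∧ d ≤ n ∧ p ^ (e + 1) ∣ Nat.card F ^ d - 1 := by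
  classical
  have hxi : IsIntegral F x := Algebra.IsIntegral.isIntegral x
  set μ := minpoly F x with hμdef
  have h1 : μ ∣ X ^ p ^ (e + 1) - 1 := minpoly.dvd F x (by simp [← hx, pow_orderOf_eq_one])
  have h2 : ¬ μ ∣ X ^ p ^ e - 1 := by
    intro h
    have h0 := Polynomial.aeval_eq_zero_of_dvd_aeval_eq_zero h (minpoly.aeval F x)
    simp only [map_sub, map_pow, aeval_X, map_one, sub_eq_zero] at h0
    have h3 : p ^ (e + 1) ∣ p ^ e := hx ▸ orderOf_dvd_iff_pow_eq_one.2 h0
    exact absurd (Nat.le_of_dvd (pow_pos hp.pos e) h3) (not_le.2 (Nat.pow_lt_pow_right hp.one_lt (by omega)))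
  have hsep : (X ^ p ^ (e + 1) - 1 : F[X]).Separable := by
    simpa using separable_X_pow_sub_C (1 : F) (n := p ^ (e + 1)) (by push_cast; exact pow_ne_zero _ hpF) one_ne_zero
  obtain ⟨f, hf, hfμ, hfb⟩ : ∃ f, Irreducible f ∧ f ∣ μ ∧ ¬ f ∣ X ^ p ^ e - 1 := by
    by_contra hcon
    push Not at hcon
    exact h2 (squarefree_dvd_of_irreducible_dvd (hsep.squarefree.squarefree_of_dvd h1) hcon)
  haveI : Fact (Irreducible f) := ⟨hf⟩
  have hdeg : f.natDegree ≤ n := by
    have h4 := hfμ.trans (Matrix.minpoly_dvd_charpoly x)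
    have := Polynomial.natDegree_le_of_dvd h4 (Matrix.charpoly_monic x).ne_zero
    simpa [Matrix.charpoly_natDegree_eq_dim] using this
  haveI : Module.Finite F (AdjoinRoot f) := (AdjoinRoot.powerBasis hf.ne_zero).finite
  haveI : Finite (AdjoinRoot f) := Module.finite_of_finite F
  have hroot : ∀ P : F[X], (aeval (AdjoinRoot.root f) P = 0) ↔ f ∣ P := fun P => by
    rw [AdjoinRoot.aeval_eq, AdjoinRoot.mk_eq_zero]
  have hα1 : (AdjoinRoot.root f) ^ p ^ (e + 1) = 1 := by
    simpa [sub_eq_zero] using (hroot _).2 (hfμ.trans h1)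
  have hα2 : ¬ (AdjoinRoot.root f) ^ p ^ e = 1 := fun h =>
    hfb ((hroot _).1 (by simp [h]))
  haveI := Fact.mk hp
  have hord := orderOf_eq_prime_pow hα2 hα1
  refine ⟨f.natDegree, hf.natDegree_pos, hdeg, ?_⟩
  rw [← hord]
  have hcard : Nat.card (AdjoinRoot f) = Nat.card F ^ f.natDegree := by
    rw [Module.natCard_eq_pow_finrank (K := F), (AdjoinRoot.powerBasis hf.ne_zero).finrank,
      AdjoinRoot.powerBasis_dim]
  rw [← hcard]
  refine orderOf_dvd_iff_pow_eq_one.2 ?_
  haveI := Fintype.ofFinite (AdjoinRoot f)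
  rw [Nat.card_eq_fintype_card]
  refine FiniteField.pow_card_sub_one_eq_one _ ?_
  intro h0
  rw [h0, zero_pow (pow_pos hp.pos _).ne'] at hα1
  exact zero_ne_one hα1

/-- For `1 ≤ d ≤ n` the group `GL_n(q)` has an element of order `q^d - 1`. -/
theorem exists_gl_orderOf {F : Type*} [Field F] [Finite F] {n d : ℕ} (h1 : 1 ≤ d) (hdn : d ≤ n) :
    ∃ g : GL (Fin n) F, orderOf g = Nat.card F ^ d - 1 := by
  classical
  haveI : NeZero d := ⟨by omega⟩
  haveI : Fact (ringChar F).Prime := ⟨CharP.char_is_prime F _⟩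
  let K := FiniteField.Extension F (ringChar F) d
  have hfr : Module.finrank F K = d := FiniteField.finrank_extension F _ d
  let e : (K × (Fin (n - d) → F)) ≃ₗ[F] (Fin n → F) := LinearEquiv.ofFinrankEq _ _ (by
    simp [Module.finrank_prod, hfr]; omega)
  let ψ : K →* Matrix (Fin n) (Fin n) F :=
    { toFun := fun a => LinearMap.toMatrix'
        (e.toLinearMap ∘ₗ (LinearMap.mulLeft F a).prodMap LinearMap.id ∘ₗ e.symm.toLinearMap)
      map_one' := by
        rw [← LinearMap.toMatrix'_one]; congr 1; ext v; simp [LinearMap.prodMap_apply]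
      map_mul' := fun a b => by
        rw [← LinearMap.toMatrix'_comp]; congr 1; ext v; simp [LinearMap.prodMap_apply, mul_assoc] }
  have hinj : Function.Injective ψ := by
    intro a b hab
    have := DFunLike.congr_fun (LinearMap.toMatrix'.injective hab) (e (1, 0))
    simpa [LinearMap.prodMap_apply] using this
  haveI := Fintype.ofFinite K
  obtain ⟨u, hu⟩ := IsCyclic.exists_ofOrder_eq_natCard (α := Kˣ)
  refine ⟨Units.map ψ u, ?_⟩
  rw [orderOf_injective (Units.map ψ) (Units.map_injective hinj) u, hu, Nat.card_units,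
    FiniteField.natCard_extension]

end Cfsg.Agent.LinSpec
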