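/-
Primary decomposition facts for single matrices.
* `charpoly_eq_pow_of_aeval_pow`: if `f` is monic irreducible and `f(M)^N = 0`, then `charpoly M = f^k`.
* `exists_idempotent_or_primary`: either a non-trivial idempotent is a polynomial in `M`, or the minimal
  polynomial of `M` is a power of a monic irreducible.
* `dvd_of_dvd_charpoly`: irreducible factors of the characteristic polynomial divide any annihilator.
* `exists_torsion_det_one`, `exists_torsion_scalar`: from a non-trivial idempotent `e` and `ζ` of prime order `r ∤ n`, a non-scalar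
  determinant-one matrix of order dividing `r` in the algebra `F + F e`.
* `shift`, `shift_pow`: nilpotent Jordan matrices.
-/
import Cfsg.Agent.Lib.LinSpec.Basic

set_option autoImplicit false
set_option linter.style.haveILetI false
set_option linter.unusedSimpArgs false

namespace Cfsg.Agent.LinSpec

open Polynomial

/-- An irreducible factor of the characteristic polynomial divides every polynomial killing the matrix. -/
theorem dvd_of_dvd_charpoly {F : Type*} [Field F] {n : ℕ} {M : Matrix (Fin n) (Fin n) F} {g P : F[X]}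
    (hg : Irreducible g) (hgM : g ∣ M.charpoly) (h : aeval M P = 0) : g ∣ P := by
  classical
  haveI : Fact (Irreducible g) := ⟨hg⟩
  let φ := algebraMap F (AdjoinRoot g)
  set β := AdjoinRoot.root g
  have hβ : β ∈ spectrum (AdjoinRoot g) (φ.mapMatrix M) := by
    rw [Matrix.mem_spectrum_iff_isRoot_charpoly, RingHom.mapMatrix_apply, Matrix.charpoly_map, IsRoot.def,
      eval_map, ← aeval_def]
    rw [AdjoinRoot.aeval_eq, AdjoinRoot.mk_eq_zero]
    exact hgM
  have hz : aeval (φ.mapMatrix M) (P.map φ) = 0 := by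
    rw [aeval_map_algebraMap]
    have : φ.mapMatrix M = (Algebra.ofId F (AdjoinRoot g)).mapMatrix M := rfl
    rw [this, aeval_algHom_apply, h, map_zero]
  have hn : Nonempty (Fin n) := by
    by_contra hne
    rw [not_nonempty_iff] at hne
    rw [Matrix.charpoly, Matrix.det_isEmpty] at hgM
    exact hg.not_isUnit (isUnit_of_dvd_one hgM)
  have h0 := spectrum.subset_polynomial_aeval (φ.mapMatrix M) (P.map φ) ⟨β, hβ, rfl⟩
  rw [hz, spectrum.zero_eq, Set.mem_singleton_iff] at h0
  simp only [eval_map] at h0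
  change aeval (AdjoinRoot.root g) P = 0 at h0
  rwa [AdjoinRoot.aeval_eq, AdjoinRoot.mk_eq_zero] at h0

/-- If `f` is monic irreducible and `f(M)^N = 0`, the characteristic polynomial of `M` is a power of `f`. -/
theorem charpoly_eq_pow_of_aeval_pow {F : Type*} [Field F] {n N : ℕ} {M : Matrix (Fin n) (Fin n) F} {f : F[X]}
    (hf : Irreducible f) (hm : f.Monic) (h : aeval M (f ^ N) = 0) :
    ∃ k, M.charpoly = f ^ k ∧ f.natDegree * k = n := by
  classical
  have hfac : ∀ g, Irreducible g → g ∣ M.charpoly → f ∣ g := fun g hg hgM =>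
    (hg.associated_of_dvd hf (hg.prime.dvd_of_dvd_pow (dvd_of_dvd_charpoly hg hgM h))).symm.dvd
  obtain ⟨k, c, hc, hk⟩ := WfDvdMonoid.max_power_factor (Matrix.charpoly_monic M).ne_zero hf
  have hcm : c.Monic := (hm.pow k).of_mul_monic_left (hk ▸ Matrix.charpoly_monic M)
  have hc1 : c = 1 := by
    by_contra hc1
    have hu : ¬ IsUnit c := fun hu => hc1 (hcm.eq_one_of_isUnit hu)
    obtain ⟨g, hg, hgc⟩ := WfDvdMonoid.exists_irreducible_factor hu hcm.ne_zero
    exact hc ((hfac g hg (hgc.trans (hk ▸ dvd_mul_left c _))).trans hgc)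
  refine ⟨k, by rw [hk, hc1, mul_one], ?_⟩
  have := M.charpoly_natDegree_eq_dim
  rw [hk, hc1, mul_one, hm.natDegree_pow, Fintype.card_fin] at this
  linarith

/-- Either `F[M]` contains a non-trivial idempotent, or the minimal polynomial of `M` is primary. -/
theorem exists_idempotent_or_primary {F : Type*} [Field F] {n : ℕ} (hn : 0 < n) (M : Matrix (Fin n) (Fin n) F) :
    (∃ e : Matrix (Fin n) (Fin n) F, e * e = e ∧ e ≠ 0 ∧ e ≠ 1 ∧ Commute e M) ∨
      ∃ (f : F[X]) (k : ℕ), Irreducible f ∧ f.Monic ∧ k ≤ n ∧ aeval M (f ^ k) = 0 := by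
  classical
  haveI : Nonempty (Fin n) := ⟨⟨0, hn⟩⟩
  have hi : IsIntegral F M := Algebra.IsIntegral.isIntegral M
  have hμm := minpoly.monic hi
  have hμu : ¬ IsUnit (minpoly F M) := minpoly.not_isUnit F M
  obtain ⟨f₀, hf₀, hf₀μ⟩ := WfDvdMonoid.exists_irreducible_factor hμu hμm.ne_zero
  set f := normalize f₀ with hfdef
  have hf : Irreducible f := (normalize_associated f₀).symm.irreducible hf₀
  have hfm : f.Monic := monic_normalize hf₀.ne_zero
  have hfμ : f ∣ (minpoly F M) := normalize_dvd_iff.2 hf₀μ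
  obtain ⟨k, c, hc, hk⟩ := WfDvdMonoid.max_power_factor hμm.ne_zero hf
  have hcm : c.Monic := (hfm.pow k).of_mul_monic_left (hk ▸ hμm)
  have hk0 : k ≠ 0 := by
    rintro rfl
    rw [hk, pow_zero, one_mul] at hfμ
    exact hc hfμ
  by_cases hc1 : c = 1
  · right
    refine ⟨f, k, hf, hfm, ?_, by rw [← mul_one (f ^ k), ← hc1, ← hk]; exact minpoly.aeval F M⟩
    have h1 := natDegree_le_of_dvd (Matrix.minpoly_dvd_charpoly M) M.charpoly_monic.ne_zero
    rw [M.charpoly_natDegree_eq_dim, Fintype.card_fin, hk, hc1, mul_one, hfm.natDegree_pow] at h1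
    exact le_trans (Nat.le_mul_of_pos_right k hf.natDegree_pos) h1
  · left
    obtain ⟨a, b, hab⟩ := ((hf.coprime_iff_not_dvd).2 hc).pow_left (m := k)
    have hcd : 0 < c.natDegree := hcm.natDegree_pos.2 hc1
    have hfd : 0 < (f ^ k).natDegree := by
      rw [hfm.natDegree_pow]; exact Nat.mul_pos (Nat.pos_of_ne_zero hk0) hf.natDegree_pos
    refine ⟨aeval M (a * f ^ k), ?_, ?_, ?_, ?_⟩
    · have h : aeval M ((a * b) * (minpoly F M)) = 0 := by rw [map_mul, minpoly.aeval, mul_zero]
      rw [hk, show a * b * (f ^ k * c) = a * f ^ k * (1 - a * f ^ k) by linear_combination (a * f ^ k) * hab,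
        map_mul, map_sub, map_one, mul_sub, mul_one, sub_eq_zero] at h
      exact h.symm
    · intro h
      have h1 : c ∣ a * f ^ k := (Dvd.intro_left (f ^ k) hk.symm).trans (minpoly.dvd F M h)
      have h2 : c ∣ 1 := hab ▸ dvd_add h1 (dvd_mul_left c b)
      exact hc1 (hcm.eq_one_of_isUnit (isUnit_of_dvd_one h2))
    · intro h
      have h0 : aeval M (b * c) = 0 := by
        rw [show b * c = 1 - a * f ^ k by linear_combination hab, map_sub, map_one, h, sub_self]
      have h1 : f ^ k ∣ b * c := (Dvd.intro c hk.symm).trans (minpoly.dvd F M h0)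
      have h2 : f ^ k ∣ 1 := hab ▸ dvd_add (dvd_mul_left (f ^ k) a) h1
      exact ((isUnit_pow_iff hk0).not.2 hf.not_isUnit) (isUnit_of_dvd_one h2)
    · calc aeval M (a * f ^ k) * M = aeval M (a * f ^ k * X) := by rw [map_mul (aeval M) (a * f ^ k) X, aeval_X]
        _ = M * aeval M (a * f ^ k) := by rw [mul_comm (a * f ^ k) X, map_mul (aeval M) X, aeval_X]

/-- As `exists_torsion_det_one`, giving the matrix explicitly. -/
theorem exists_torsion_scalar {F : Type*} [Field F] {n r : ℕ} (hr : r.Prime) (hrn : ¬ r ∣ n) {ζ : F}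
    (hζ : orderOf ζ = r) {e : Matrix (Fin n) (Fin n) F} (he : e * e = e) (he0 : e ≠ 0) (he1 : e ≠ 1) :
    ∃ s : F, s ^ r = 1 ∧ (s • (1 + (ζ - 1) • e)).det = 1 ∧ (s • (1 + (ζ - 1) • e)) ^ r = 1 ∧
      ∀ c : F, s • (1 + (ζ - 1) • e) ≠ c • 1 := by
  have hζr : ζ ^ r = 1 := hζ ▸ pow_orderOf_eq_one ζ
  have hζ0 : ζ ≠ 0 := by rintro rfl; rw [zero_pow hr.pos.ne'] at hζr; exact zero_ne_one hζr
  have hζ1 : ζ - 1 ≠ 0 := by rw [sub_ne_zero]; rintro rfl; rw [orderOf_one] at hζ; exact hr.one_lt.ne hζ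
  set w := (1 : Matrix (Fin n) (Fin n) F) + (ζ - 1) • e with hw
  have hpow : ∀ i : ℕ, w ^ i = 1 + (ζ ^ i - 1) • e := by
    intro i
    induction i with
    | zero => simp
    | succ i ih =>
      rw [pow_succ, ih, hw, add_mul, one_mul, smul_mul_assoc, mul_add, mul_one, mul_smul_comm, he, add_assoc]
      congr 1
      module
  have hwr : w ^ r = 1 := by rw [hpow, hζr]; simp
  have hrn' : (ζ ^ n) ^ r = 1 := by rw [← pow_mul, mul_comm, pow_mul, hζr, one_pow]
  obtain ⟨i, -, hi⟩ : ∃ i < r, (ζ ^ n) ^ i = w.det := by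
    haveI : NeZero r := ⟨hr.pos.ne'⟩
    have hdet : w.det ^ r = 1 := by rw [← Matrix.det_pow, hwr, Matrix.det_one]
    refine IsPrimitiveRoot.eq_pow_of_pow_eq_one ?_ hdet
    have h := (IsPrimitiveRoot.orderOf ζ).pow_of_coprime n (by
      rw [hζ]; exact ((Nat.Prime.coprime_iff_not_dvd hr).2 hrn).symm)
    rwa [hζ] at h
  have hc0 : ((ζ ^ i)⁻¹ : F) ≠ 0 := inv_ne_zero (pow_ne_zero _ hζ0)
  refine ⟨(ζ ^ i)⁻¹, by rw [inv_pow, ← pow_mul, mul_comm, pow_mul, hζr, one_pow, inv_one], ?_, ?_, ?_⟩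
  · rw [Matrix.det_smul, Fintype.card_fin, ← hi, ← pow_mul, inv_pow, ← pow_mul, mul_comm i n]
    exact inv_mul_cancel₀ (pow_ne_zero _ hζ0)
  · rw [_root_.smul_pow, hwr, inv_pow, ← pow_mul, mul_comm, pow_mul, hζr, one_pow, inv_one, one_smul]
  · intro c hc
    have h : (ζ - 1) • e = (c * ζ ^ i - 1) • (1 : Matrix (Fin n) (Fin n) F) := by
      have h' := congrArg (fun m => ζ ^ i • m) hc
      simp only [smul_smul] at h'
      rw [mul_inv_cancel₀ (pow_ne_zero _ hζ0), one_smul, hw] at h'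
      rw [sub_smul (c * ζ ^ i), one_smul, mul_comm c, ← h']
      abel
    have h' : e = ((ζ - 1)⁻¹ * (c * ζ ^ i - 1)) • (1 : Matrix (Fin n) (Fin n) F) := by
      rw [← smul_smul, ← h, smul_smul, inv_mul_cancel₀ hζ1, one_smul]
    set d := (ζ - 1)⁻¹ * (c * ζ ^ i - 1)
    rcases eq_or_ne d 0 with hd | hd
    · exact he0 (by rw [h', hd, zero_smul])
    · rw [h', smul_mul_assoc, one_mul, smul_smul] at he
      have h2 := congrArg (fun m => d⁻¹ • m) he
      simp only [smul_smul] at h2
      rw [← mul_assoc, inv_mul_cancel₀ hd, one_mul, one_smul] at h2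
      exact he1 (h'.trans h2)

/-- From a non-trivial idempotent `e` and `ζ` of prime order `r ∤ n`, a non-scalar matrix of determinant one with
`M ^ r = 1` commuting with everything commuting with `e`. -/
theorem exists_torsion_det_one {F : Type*} [Field F] {n r : ℕ} (hr : r.Prime) (hrn : ¬ r ∣ n) {ζ : F}
    (hζ : orderOf ζ = r) {e : Matrix (Fin n) (Fin n) F} (he : e * e = e) (he0 : e ≠ 0) (he1 : e ≠ 1) :
    ∃ w : Matrix (Fin n) (Fin n) F, w.det = 1 ∧ w ^ r = 1 ∧ (∀ c : F, w ≠ c • 1) ∧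
      ∀ M, Commute e M → Commute w M := by
  obtain ⟨s, -, h1, h2, h3⟩ := exists_torsion_scalar hr hrn hζ he he0 he1
  exact ⟨_, h1, h2, h3, fun M hM => ((Commute.one_left M).add_left (hM.smul_left _)).smul_left _⟩

/-- The nilpotent Jordan matrix of rank `m - 1` on the first `m` coordinates. -/
def shift (F : Type*) [Field F] (n m : ℕ) : Matrix (Fin n) (Fin n) F :=
  Matrix.of fun i j => if (j : ℕ) = i + 1 ∧ (j : ℕ) < m then 1 else 0

theorem shift_pow {F : Type*} [Field F] {n m : ℕ} (hmn : m ≤ n) (j : ℕ) :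
    shift F n m ^ (j + 1) = Matrix.of fun i l : Fin n => if (l : ℕ) = i + (j + 1) ∧ (l : ℕ) < m then (1 : F) else 0 := by
  induction j with
  | zero => simp [shift]
  | succ j ih =>
    rw [pow_succ, ih]
    ext i l
    rw [Matrix.mul_apply]
    simp only [shift, Matrix.of_apply]
    by_cases h : (l : ℕ) = i + (j + 1 + 1) ∧ (l : ℕ) < m
    · rw [if_pos h, Finset.sum_eq_single (⟨i + (j + 1), by omega⟩ : Fin n)]
      · rw [if_pos ⟨rfl, by show (i : ℕ) + (j + 1) < m; omega⟩, if_pos ⟨by show (l : ℕ) = i + (j + 1) + 1; omega, h.2⟩,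
          mul_one]
      · intro b _ hb
        rw [if_neg, zero_mul]
        rintro ⟨hb1, -⟩
        exact hb (Fin.ext hb1)
      · simp
    · rw [if_neg h]
      refine Finset.sum_eq_zero fun b _ => ?_
      by_cases hb : (b : ℕ) = i + (j + 1) ∧ (b : ℕ) < m
      · rw [if_neg (c := (l : ℕ) = b + 1 ∧ _) (by omega), mul_zero]
      · rw [if_neg hb, zero_mul]

end Cfsg.Agent.LinSpec
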