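/-
Matrices unitary for the standard hermitian form (`|F| = q²`): adjoints, the twisted reversal of polynomials and
the primary dichotomy.
* `adj`, `adj_mul`, `adj_smul`, `adj_adj`, `adj_aeval`, `isUnitary_iff_adj`, `adj_eq_of_forall`
* `qHom`: `x ↦ x^(q^i)` on an extension of `F`, as a ring homomorphism
* `rev`, `aeval_rev_root`, `rev_charpoly`, `conj_minpoly`
* `unitary_dichotomy`: a unitary matrix commutes with a non-trivial self-adjoint idempotent, or its characteristic
  polynomial is `(f f')^j` (`n` even) or `f^j` (`n` odd) with `f'` the twisted reversal of `f`.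
* `exists_transfer`: a non-degenerate hermitian space of dimension `n` is the standard one.
-/
import Cfsg.Agent.Lib.LinSpec.Primary
import Cfsg.Agent.Lib.Unitary.Center

set_option autoImplicit false
set_option linter.style.haveILetI false
set_option linter.unusedSimpArgs false
set_option linter.unusedSectionVars false

namespace Cfsg.Agent.LinSpec

open Polynomial Cfsg.Agent.Unitary
open scoped Matrix

section
variable {F : Type*} [Field F] [Fintype F] {q : ℕ} (hF : Fintype.card F = q ^ 2) {n : ℕ}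

/-- The adjoint for the standard hermitian form. -/
noncomputable def adj (M : Matrix (Fin n) (Fin n) F) : Matrix (Fin n) (Fin n) F := (M.map (Cfsg.Agent.Unitary.conjHom hF))ᵀ

theorem adj_mul (A B : Matrix (Fin n) (Fin n) F) : adj hF (A * B) = adj hF B * adj hF A := by
  rw [adj, adj, adj, Matrix.map_mul, Matrix.transpose_mul]

theorem adj_one : adj hF (1 : Matrix (Fin n) (Fin n) F) = 1 := by
  rw [adj, Matrix.map_one _ (map_zero _) (map_one _), Matrix.transpose_one]

theorem adj_zero : adj hF (0 : Matrix (Fin n) (Fin n) F) = 0 := by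
  rw [adj, Matrix.map_zero _ (map_zero _), Matrix.transpose_zero]

theorem adj_add (A B : Matrix (Fin n) (Fin n) F) : adj hF (A + B) = adj hF A + adj hF B := by
  ext i j; simp [adj, add_pow_q hF]

theorem adj_sub (A B : Matrix (Fin n) (Fin n) F) : adj hF (A - B) = adj hF A - adj hF B := by
  ext i j; simp [adj, sub_pow_q hF]

theorem adj_smul (c : F) (A : Matrix (Fin n) (Fin n) F) : adj hF (c • A) = c ^ q • adj hF A := by
  ext i j; simp [adj, mul_pow]

theorem adj_adj (A : Matrix (Fin n) (Fin n) F) : adj hF (adj hF A) = A := by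
  ext i j; simp [adj, pow_q_pow_q hF]

theorem adj_pow (A : Matrix (Fin n) (Fin n) F) (k : ℕ) : adj hF (A ^ k) = adj hF A ^ k := by
  induction k with
  | zero => rw [pow_zero, pow_zero, adj_one]
  | succ k ih => rw [pow_succ, adj_mul, ih, ← pow_succ']

theorem adj_aeval (A : Matrix (Fin n) (Fin n) F) (P : F[X]) :
    adj hF (aeval A P) = aeval (adj hF A) (P.map (Cfsg.Agent.Unitary.conjHom hF)) := by
  induction P using Polynomial.induction_on' with
  | add f g hf hg => rw [map_add, adj_add, hf, hg, Polynomial.map_add, map_add]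
  | monomial k c =>
    rw [aeval_monomial, map_monomial, aeval_monomial, ← Algebra.smul_def, ← Algebra.smul_def, adj_smul, adj_pow]
    rfl

theorem hermForm_eq_dotProduct (u v : Fin n → F) :
    Cfsg.hermForm n F q u v = u ⬝ᵥ (fun i => Cfsg.Agent.Unitary.conjHom hF (v i)) := rfl

theorem hermForm_mulVec_left (A : Matrix (Fin n) (Fin n) F) (u v : Fin n → F) :
    Cfsg.hermForm n F q (A *ᵥ u) v = Cfsg.hermForm n F q u (adj hF A *ᵥ v) := by
  rw [hermForm_eq_dotProduct hF, hermForm_eq_dotProduct hF]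
  have h : (fun i => Cfsg.Agent.Unitary.conjHom hF ((adj hF A *ᵥ v) i)) = Aᵀ *ᵥ (fun i => Cfsg.Agent.Unitary.conjHom hF (v i)) := by
    ext i
    rw [RingHom.map_mulVec]
    congr 1
    ext j k
    simp [adj, pow_q_pow_q hF]
  rw [h, Matrix.mulVec_transpose, dotProduct_comm (A *ᵥ u), Matrix.dotProduct_mulVec, dotProduct_comm]

theorem adj_eq_of_forall {A B : Matrix (Fin n) (Fin n) F}
    (h : ∀ u v, Cfsg.hermForm n F q (A *ᵥ u) v = Cfsg.hermForm n F q u (B *ᵥ v)) : adj hF A = B := by
  ext i j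
  have h1 := h (Pi.single i 1) (Pi.single j 1)
  rw [hermForm_single_right hF, hermForm_single_left, Matrix.mulVec_single_one, Matrix.mulVec_single_one] at h1
  show Cfsg.Agent.Unitary.conjHom hF (A j i) = B i j
  simp only [Matrix.col_apply, Matrix.transpose_apply] at h1
  rw [h1, conjHom_apply, pow_q_pow_q hF]

theorem isUnitary_iff_adj (M : Matrix (Fin n) (Fin n) F) : IsUnitary q M ↔ adj hF M * M = 1 := by
  constructor
  · intro h
    have h1 : adj hF (1 : Matrix (Fin n) (Fin n) F) = adj hF M * M := adj_eq_of_forall hF fun u v => by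
      rw [Matrix.one_mulVec, ← Matrix.mulVec_mulVec, ← hermForm_mulVec_left hF]
      exact (h u v).symm
    rw [← h1, adj_one]
  · intro h u v
    rw [hermForm_mulVec_left hF, Matrix.mulVec_mulVec, h, Matrix.one_mulVec]

include hF in
theorem conj_pow_odd {i : ℕ} (hi : Odd i) (c : F) : c ^ (q ^ i) = c ^ q := by
  obtain ⟨j, rfl⟩ := hi
  induction j with
  | zero => simp
  | succ j ih =>
    rw [show 2 * (j + 1) + 1 = (2 * j + 1) + 2 by ring, pow_add, mul_comm, pow_mul, ← hF,
      FiniteField.pow_card, ih]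

/-- `x ↦ x^(q^i)` on an extension of `F`. -/
def qHom (L : Type*) [Field L] [Algebra F L] (i : ℕ) : L →+* L where
  toFun x := x ^ q ^ i
  map_one' := one_pow _
  map_mul' x y := mul_pow x y _
  map_zero' := zero_pow (pow_pos (by have := two_le_q hF; omega) i).ne'
  map_add' x y := by
    obtain ⟨p, m, hp, hchar, hq, -⟩ := exists_prime_pow hF
    have := Fact.mk hp
    haveI : CharP L p := charP_of_injective_algebraMap (algebraMap F L).injective p
    rw [hq, ← pow_mul]
    exact add_pow_char_pow x y p (m * i)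

/-- The twisted reversal of a polynomial. -/
noncomputable def rev (P : F[X]) : F[X] := (P.map (Cfsg.Agent.Unitary.conjHom hF)).reverse

theorem rev_mul (P Q : F[X]) : rev hF (P * Q) = rev hF P * rev hF Q := by
  rw [rev, Polynomial.map_mul, reverse_mul_of_domain]; rfl

theorem rev_pow (P : F[X]) (k : ℕ) : rev hF (P ^ k) = rev hF P ^ k := by
  induction k with
  | zero =>
    rw [pow_zero, pow_zero, rev, Polynomial.map_one, ← C_1, reverse_C]
  | succ k ih => rw [pow_succ, rev_mul, ih, pow_succ]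

theorem rev_ne_zero {P : F[X]} (h : P ≠ 0) : rev hF P ≠ 0 := by
  rw [rev, Ne, reverse_eq_zero, Polynomial.map_eq_zero]; exact h

theorem natDegree_rev_le (P : F[X]) : (rev hF P).natDegree ≤ P.natDegree :=
  (reverse_natDegree_le _).trans (natDegree_map_le)

theorem aeval_rev_root {L : Type*} [Field L] [Algebra F L] {z : L} (hz : z ≠ 0) {P : F[X]}
    (h : aeval z P = 0) : aeval (z ^ q)⁻¹ (rev hF P) = 0 := by
  haveI : Invertible (z ^ q) := invertibleOfNonzero (pow_ne_zero q hz)
  have h1 : eval₂ (algebraMap F L) (z ^ q) (P.map (Cfsg.Agent.Unitary.conjHom hF)) = 0 := by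
    have h2 := congrArg (qHom hF L 1) h
    rw [aeval_def, Polynomial.hom_eval₂, map_zero] at h2
    have hc : (algebraMap F L).comp (Cfsg.Agent.Unitary.conjHom hF) = (qHom hF L 1).comp (algebraMap F L) :=
      RingHom.ext fun c => by
        show algebraMap F L (c ^ q) = (algebraMap F L c) ^ q ^ 1
        rw [pow_one, map_pow]
    have hz1 : qHom hF L 1 z = z ^ q := congrArg (z ^ ·) (pow_one q)
    rw [eval₂_map, hc, ← hz1]
    exact h2
  rw [rev, aeval_def, ← invOf_eq_inv (z ^ q), eval₂_reverse_eq_zero_iff, h1]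

theorem rev_charpoly {g : Matrix (Fin n) (Fin n) F} (hg : adj hF g * g = 1) :
    ∃ v : F, v ≠ 0 ∧ rev hF g.charpoly = C v * g.charpoly := by
  have hu : IsUnit g := IsUnit.of_mul_eq_one_right _ hg
  have hinv : g⁻¹ = adj hF g := Matrix.inv_eq_left_inv hg
  have hdet : g.det ≠ 0 := ((Matrix.isUnit_iff_isUnit_det g).1 hu).ne_zero
  have h1 : g.charpoly.map (Cfsg.Agent.Unitary.conjHom hF) = C ((-1) ^ n * (g.det)⁻¹) * g.charpoly.reverse := by
    rw [Matrix.reverse_charpoly, ← Matrix.charpoly_map]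
    rw [show (g.map (Cfsg.Agent.Unitary.conjHom hF)) = (adj hF g)ᵀ by rw [adj, Matrix.transpose_transpose]]
    rw [Matrix.charpoly_transpose, ← hinv, Matrix.charpoly_inv _ hu, Fintype.card_fin, Ring.inverse_eq_inv',
      map_mul, map_pow, map_neg, map_one]
  set u := (-1 : F) ^ n * (g.det)⁻¹
  have hu0 : u ≠ 0 := mul_ne_zero (pow_ne_zero _ (neg_ne_zero.2 one_ne_zero)) (inv_ne_zero hdet)
  have h2 : g.charpoly = C (u ^ q) * rev hF g.charpoly := by
    have h3 := congrArg (Polynomial.map (Cfsg.Agent.Unitary.conjHom hF)) h1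
    rw [Polynomial.map_map, Polynomial.map_mul, Polynomial.map_C] at h3
    have hid : (Cfsg.Agent.Unitary.conjHom hF).comp (Cfsg.Agent.Unitary.conjHom hF) = RingHom.id F := RingHom.ext fun x => pow_q_pow_q hF x
    rw [hid, Polynomial.map_id] at h3
    rw [rev]
    conv_lhs => rw [h3]
    congr 1
    rw [reverse, reverse, natDegree_map, reflect_map]
  refine ⟨(u ^ q)⁻¹, inv_ne_zero (pow_ne_zero _ hu0), ?_⟩
  conv_rhs => rw [h2]
  rw [← mul_assoc, ← C_mul, inv_mul_cancel₀ (pow_ne_zero _ hu0), C_1, one_mul]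

theorem aeval_reflect {g h : Matrix (Fin n) (Fin n) F} (hgh : g * h = 1) {N : ℕ} (P : F[X])
    (hP : P.natDegree ≤ N) : g ^ N * aeval h P = aeval g (reflect N P) := by
  refine induction_with_natDegree_le (fun P => g ^ N * aeval h P = aeval g (reflect N P)) N (by simp) ?_ ?_ P hP
  · intro k c _ hk
    rw [reflect_C_mul_X_pow, revAt_le hk, map_mul, map_mul, aeval_C, aeval_C, map_pow, map_pow, aeval_X,
      aeval_X, ← mul_assoc, ← Algebra.commutes, mul_assoc]
    congr 1
    have hc : Commute g h := by rw [Commute, SemiconjBy, hgh, mul_eq_one_comm.1 hgh]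
    nth_rewrite 1 [← Nat.sub_add_cancel hk]
    rw [pow_add, mul_assoc, ← hc.mul_pow, hgh, one_pow, mul_one]
  · intro f f' _ _ h1 h2
    rw [map_add, mul_add, h1, h2, reflect_add, map_add]

theorem conj_minpoly {f : F[X]} (hf : Irreducible f) (hfm : f.Monic) (hf0 : f.coeff 0 ≠ 0) :
    ∃ f' : F[X], Irreducible f' ∧ f'.Monic ∧ f'.natDegree = f.natDegree ∧
      (∃ u : F, u ≠ 0 ∧ rev hF f = C u * f') ∧ ∃ v : F, v ≠ 0 ∧ rev hF f' = C v * f := by
  haveI : Fact (Irreducible f) := ⟨hf⟩
  haveI : Module.Finite F (AdjoinRoot f) := (AdjoinRoot.powerBasis hf.ne_zero).finite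
  set α := AdjoinRoot.root f
  have hfα : aeval α f = 0 := by rw [AdjoinRoot.aeval_eq, AdjoinRoot.mk_self]
  have hα : α ≠ 0 := fun h => by
    rw [h, aeval_def, eval₂_at_zero, map_eq_zero] at hfα
    exact hf0 hfα
  have hi : IsIntegral F (α ^ q)⁻¹ := Algebra.IsIntegral.isIntegral _
  set f' := minpoly F (α ^ q)⁻¹
  have h1 : f' ∣ rev hF f := minpoly.dvd F _ (aeval_rev_root hF hα hfα)
  have h2 : f ∣ rev hF f' := by
    have hroot : aeval (((α ^ q)⁻¹ ^ q)⁻¹) (rev hF f') = 0 :=
      aeval_rev_root hF (inv_ne_zero (pow_ne_zero _ hα)) (minpoly.aeval F _)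
    rw [inv_pow, inv_inv, ← pow_mul, ← sq, ← hF] at hroot
    have hfr : aeval (α ^ Fintype.card F) f = 0 := by
      have h := aeval_algHom_apply (FiniteField.frobeniusAlgHom F (AdjoinRoot f)) α f
      rw [hfα, map_zero, FiniteField.coe_frobeniusAlgHom] at h
      exact h
    have hmin := minpoly.eq_of_irreducible_of_monic hf hfr hfm
    rw [hmin]
    exact minpoly.dvd F _ hroot
  have d1 : f'.natDegree ≤ f.natDegree :=
    (natDegree_le_of_dvd h1 (rev_ne_zero hF hf.ne_zero)).trans (natDegree_rev_le hF f)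
  have d2 : f.natDegree ≤ f'.natDegree :=
    (natDegree_le_of_dvd h2 (rev_ne_zero hF (minpoly.ne_zero hi))).trans (natDegree_rev_le hF f')
  have key : ∀ {A B : F[X]}, A.Monic → A ∣ rev hF B → B ≠ 0 → B.natDegree ≤ A.natDegree →
      ∃ u : F, u ≠ 0 ∧ rev hF B = C u * A := by
    intro A B hA hAB hB0 hdeg
    obtain ⟨c, hc⟩ := hAB
    have hc0 : c ≠ 0 := by
      rintro rfl
      exact rev_ne_zero hF hB0 (by rw [hc, mul_zero])
    have hd := natDegree_rev_le hF B
    rw [hc, natDegree_mul hA.ne_zero hc0] at hd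
    have hcC : c = C (c.coeff 0) := eq_C_of_natDegree_eq_zero (by omega)
    refine ⟨c.coeff 0, fun h => hc0 (by rw [hcC, h, C_0]), ?_⟩
    rw [hc, mul_comm, ← hcC]
  exact ⟨f', minpoly.irreducible hi, minpoly.monic hi, le_antisymm d1 d2,
    key (minpoly.monic hi) h1 hf.ne_zero d2, key hfm h2 (minpoly.ne_zero hi) d1⟩

include hF in
/-- A self-conjugate irreducible has odd degree and its roots satisfy `α^(q^N) α = 1` for odd multiples `N`. -/
theorem selfconj_root {f : F[X]} (hf : Irreducible f) (hf0 : f.coeff 0 ≠ 0) [Fact (Irreducible f)]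
    (h : aeval ((AdjoinRoot.root f) ^ q)⁻¹ f = 0) :
    Odd f.natDegree ∧ ∀ N, f.natDegree ∣ N → Odd N →
      (AdjoinRoot.root f) ^ (q ^ N) * AdjoinRoot.root f = 1 := by
  haveI : Module.Finite F (AdjoinRoot f) := (AdjoinRoot.powerBasis hf.ne_zero).finite
  haveI : Finite (AdjoinRoot f) := Module.finite_of_finite F
  set α := AdjoinRoot.root f
  have hrank : Module.finrank F (AdjoinRoot f) = f.natDegree := by
    rw [(AdjoinRoot.powerBasis hf.ne_zero).finrank, AdjoinRoot.powerBasis_dim]
  have hd := hf.natDegree_pos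
  have hα : α ≠ 0 := fun h => by
    have hfα : aeval α f = 0 := by rw [AdjoinRoot.aeval_eq, AdjoinRoot.mk_self]
    rw [h, aeval_def, eval₂_at_zero, map_eq_zero] at hfα
    exact hf0 hfα
  obtain ⟨i, hi⟩ := (FiniteField.bijective_frobeniusAlgHom_pow F (AdjoinRoot f)).2
    (AdjoinRoot.liftAlgHom f (Algebra.ofId F _) (α ^ q)⁻¹ h)
  have hfrob : ∀ (k : ℕ) (x : AdjoinRoot f),
      (FiniteField.frobeniusAlgHom F (AdjoinRoot f) ^ k) x = x ^ (q ^ (2 * k)) := by
    intro k x
    rw [AlgHom.coe_pow, FiniteField.coe_frobeniusAlgHom, pow_iterate, hF, ← pow_mul]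
  have hper : ∀ a : ℕ, ∀ x : AdjoinRoot f, x ^ (q ^ (2 * f.natDegree * a)) = x := by
    intro a x
    have hc : Nat.card (AdjoinRoot f) = q ^ (2 * f.natDegree) := by
      rw [Module.natCard_eq_pow_finrank (K := F), hrank, Nat.card_eq_fintype_card, hF, pow_mul]
    haveI := Fintype.ofFinite (AdjoinRoot f)
    rw [pow_mul, ← hc, Nat.card_eq_fintype_card, FiniteField.pow_card_pow]
  have h1 : α ^ (q ^ (2 * (i : ℕ))) * α ^ q = 1 := by
    have := DFunLike.congr_fun hi α
    simp only at this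
    have hr : (AdjoinRoot.liftAlgHom f (Algebra.ofId F _) (α ^ q)⁻¹ h) α = (α ^ q)⁻¹ :=
      AdjoinRoot.liftAlgHom_root _ _ _ _
    rw [hfrob, hr] at this
    rw [this, inv_mul_cancel₀ (pow_ne_zero _ hα)]
  set m := 2 * (i : ℕ) + (2 * f.natDegree - 1) with hm
  have h2 : α ^ (q ^ m) * α = 1 := by
    have h3 : (α ^ (q ^ (2 * (i : ℕ))) * α ^ q) ^ (q ^ (2 * f.natDegree - 1)) = 1 := by rw [h1, one_pow]
    rw [mul_pow, ← pow_mul, ← pow_mul, ← pow_add q, ← pow_succ'] at h3
    rw [Nat.sub_add_cancel (by omega), ← hm] at h3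
    rwa [show α ^ (q ^ (2 * f.natDegree)) = α by simpa using hper 1 α] at h3
  have hdm : f.natDegree ∣ m := by
    rw [← hrank, ← FiniteField.orderOf_frobeniusAlgHom, orderOf_dvd_iff_pow_eq_one]
    refine AdjoinRoot.algHom_ext ?_
    rw [hfrob, AlgHom.one_apply]
    show α ^ (q ^ (2 * m)) = α
    have h4 : α ^ (q ^ m) = α⁻¹ := eq_inv_of_mul_eq_one_left h2
    rw [show 2 * m = m + m by ring, pow_add, pow_mul, h4, inv_pow, h4, inv_inv]
  have hmodd : Odd m := ⟨(i : ℕ) + f.natDegree - 1, by omega⟩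
  obtain ⟨a, ha⟩ := hdm
  have hodd : Odd f.natDegree := (Nat.odd_mul.1 (ha ▸ hmodd)).1
  refine ⟨hodd, ?_⟩
  have key : ∀ b, Odd b → α ^ (q ^ (f.natDegree * b)) = α ^ (q ^ f.natDegree) := by
    rintro b ⟨c, rfl⟩
    rw [show f.natDegree * (2 * c + 1) = 2 * f.natDegree * c + f.natDegree by ring, pow_add, pow_mul, hper]
  rintro N ⟨b, rfl⟩ hN
  rw [key b (Nat.odd_mul.1 hN).2, ← key a (Nat.odd_mul.1 (ha ▸ hmodd)).2, ← ha]
  exact h2

/-- The primary dichotomy for unitary matrices. -/
theorem unitary_dichotomy (hn : 0 < n) {g : Matrix (Fin n) (Fin n) F} (hg : adj hF g * g = 1) :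
    (∃ E : Matrix (Fin n) (Fin n) F, E * E = E ∧ E ≠ 0 ∧ E ≠ 1 ∧ adj hF E = E ∧ Commute E g) ∨
    ∃ f f' : F[X], Irreducible f ∧ f.Monic ∧ Irreducible f' ∧ f'.Monic ∧ f.coeff 0 ≠ 0 ∧
      f'.natDegree = f.natDegree ∧ (∃ u : F, u ≠ 0 ∧ rev hF f = C u * f') ∧
      ((∃ j, g.charpoly = (f * f') ^ j ∧ 2 * (f.natDegree * j) = n) ∨
       (Odd n ∧ f' = f ∧ ∃ j, g.charpoly = f ^ j ∧ f.natDegree * j = n)) := by
  classical
  haveI : Nonempty (Fin n) := ⟨⟨0, hn⟩⟩
  have hdet : g.det ≠ 0 := fun h => by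
    have h' := congrArg Matrix.det hg
    rw [Matrix.det_mul, h, mul_zero, Matrix.det_one] at h'
    exact zero_ne_one h'
  have hgg : g * adj hF g = 1 := mul_eq_one_comm.1 hg
  have hinteg : IsIntegral F g := Algebra.IsIntegral.isIntegral g
  have hμm := minpoly.monic hinteg
  obtain ⟨f₀, hf₀, hf₀μ⟩ := WfDvdMonoid.exists_irreducible_factor (minpoly.not_isUnit F g) hμm.ne_zero
  set f := normalize f₀
  have hf : Irreducible f := (normalize_associated f₀).symm.irreducible hf₀
  have hfm : f.Monic := monic_normalize hf₀.ne_zero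
  have hfμ : f ∣ minpoly F g := normalize_dvd_iff.2 hf₀μ
  have hf0 : f.coeff 0 ≠ 0 := fun h => by
    have h1 : X ∣ g.charpoly := (X_dvd_iff.2 h).trans (hfμ.trans (Matrix.minpoly_dvd_charpoly g))
    rw [X_dvd_iff] at h1
    exact hdet (by rw [Matrix.det_eq_sign_charpoly_coeff, h1, mul_zero])
  obtain ⟨f', hf', hfm', hdeg, ⟨u, hu, huf⟩, ⟨v, hv, hvf⟩⟩ := conj_minpoly hF hf hfm hf0
  obtain ⟨k, c, hc, hk⟩ := WfDvdMonoid.max_power_factor hμm.ne_zero hf
  have hk0 : k ≠ 0 := by
    rintro rfl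
    rw [hk, pow_zero, one_mul] at hfμ
    exact hc hfμ
  by_cases hC1 : ∃ E : Matrix (Fin n) (Fin n) F, E * E = E ∧ E ≠ 0 ∧ E ≠ 1 ∧ adj hF E = E ∧ Commute E g
  · exact Or.inl hC1
  right
  -- `f f'` is nilpotent on `g`
  have hann : aeval g ((f * f') ^ k) = 0 := by
    by_cases hcu : IsUnit c
    · have : minpoly F g ∣ (f * f') ^ k := by
        rw [hk, mul_pow]
        exact mul_dvd_mul dvd_rfl hcu.dvd
      exact Polynomial.aeval_eq_zero_of_dvd_aeval_eq_zero this (minpoly.aeval F g)
    obtain ⟨a, b, hab⟩ := ((hf.coprime_iff_not_dvd).2 hc).pow_left (m := k)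
    set ε := aeval g (a * f ^ k) with hεdef
    have h1 : aeval g (b * c) = 1 - ε := by
      rw [show b * c = 1 - a * f ^ k by linear_combination hab, map_sub, map_one]
    have hμ0 : aeval g (f ^ k * c) = 0 := hk ▸ minpoly.aeval F g
    have hεid : ε * ε = ε := by
      have : ε * (1 - ε) = 0 := by
        rw [← h1, hεdef, ← map_mul, show a * f ^ k * (b * c) = a * b * (f ^ k * c) by ring, map_mul, hμ0, mul_zero]
      rwa [mul_sub, mul_one, sub_eq_zero, eq_comm] at this
    have hε0 : ε ≠ 0 := fun h => by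
      have h2 : c ∣ a * f ^ k := (Dvd.intro_left (f ^ k) hk.symm).trans (minpoly.dvd F g h)
      exact hcu (isUnit_of_dvd_one (hab ▸ dvd_add h2 (dvd_mul_left c b)))
    have hε1 : ε ≠ 1 := fun h => by
      have h2 : f ^ k ∣ b * c := (Dvd.intro c hk.symm).trans (minpoly.dvd F g (by rw [h1, h, sub_self]))
      exact ((isUnit_pow_iff hk0).not.2 hf.not_isUnit)
        (isUnit_of_dvd_one (hab ▸ dvd_add (dvd_mul_left (f ^ k) a) h2))
    have hεg : ε * g = g * ε := by
      show aeval g (a * f ^ k) * g = g * aeval g (a * f ^ k)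
      conv_lhs => arg 2; rw [← aeval_X (R := F) g]
      conv_rhs => arg 1; rw [← aeval_X (R := F) g]
      rw [← map_mul, ← map_mul, mul_comm]
    have hεh : adj hF g * ε = ε * adj hF g := by
      calc adj hF g * ε = adj hF g * ε * (g * adj hF g) := by rw [hgg, mul_one]
        _ = adj hF g * (ε * g) * adj hF g := by simp only [mul_assoc]
        _ = ε * adj hF g := by rw [hεg, ← mul_assoc (adj hF g) g, hg, one_mul]
    have hεag : Commute (adj hF ε) g := by
      have := congrArg (adj hF) hεh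
      rw [adj_mul, adj_mul, adj_adj] at this
      exact this
    have hεad : Commute ε (adj hF ε) := by
      have hgen : ∀ p : F[X], Commute (aeval g p) (adj hF ε) := by
        intro p
        induction p using Polynomial.induction_on' with
        | add p1 p2 h1 h2 => rw [map_add]; exact h1.add_left h2
        | monomial i x =>
          rw [aeval_monomial]
          exact (Algebra.commute_algebraMap_left x _).mul_left (hεag.symm.pow_left i)
      exact hgen (a * f ^ k)
    have hadj : adj hF ε = 1 - ε := by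
      by_cases hE : ε * adj hF ε = 0
      · by_contra hne
        refine hC1 ⟨ε + adj hF ε, ?_, ?_, ?_, ?_, ?_⟩
        · have hid' : adj hF ε * adj hF ε = adj hF ε := by rw [← adj_mul, hεid]
          rw [mul_add, add_mul, add_mul, hεid, hid', ← hεad.eq, hE, zero_add, add_zero]
        · intro h
          have h2 := congrArg (ε * ·) h
          simp only [mul_add, hεid, hE, add_zero, mul_zero] at h2
          exact hε0 h2
        · exact fun h => hne (eq_sub_of_add_eq' h)
        · rw [adj_add, adj_adj, add_comm]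
        · exact (show Commute ε g from hεg).add_left hεag
      · exfalso
        refine hC1 ⟨ε * adj hF ε, ?_, hE, ?_, ?_, ?_⟩
        · have hid' : adj hF ε * adj hF ε = adj hF ε := by rw [← adj_mul, hεid]
          calc ε * adj hF ε * (ε * adj hF ε) = ε * (adj hF ε * ε) * adj hF ε := by simp only [mul_assoc]
            _ = ε * ε * (adj hF ε * adj hF ε) := by rw [← hεad.eq]; simp only [mul_assoc]
            _ = ε * adj hF ε := by rw [hεid, hid']
        · intro h
          have h2 := congrArg (ε * ·) h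
          simp only [← mul_assoc, hεid, mul_one] at h2
          exact hε1 (h2.symm.trans h)
        · rw [adj_mul, adj_adj]
        · exact (show Commute ε g from hεg).mul_left hεag
    -- the two halves
    have hA : aeval g (f ^ k) * (1 - ε) = 0 := by
      rw [← h1, ← map_mul, show f ^ k * (b * c) = b * (f ^ k * c) by ring, map_mul, hμ0, mul_zero]
    have hB : ε * aeval g (rev hF (f ^ k)) = 0 := by
      have h2 := congrArg (adj hF) hA
      rw [adj_zero, adj_mul, adj_sub, adj_one, hadj, sub_sub_cancel, adj_aeval] at h2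
      rw [rev, reverse, ← aeval_reflect hgg _ le_rfl, ← mul_assoc,
        ((show Commute ε g from hεg).pow_right _).eq, mul_assoc, h2, mul_zero]
    rw [rev_pow, huf, mul_pow, map_mul, ← C_pow, aeval_C, ← mul_assoc, ← Algebra.commutes, mul_assoc] at hB
    have hB' : ε * aeval g (f' ^ k) = 0 := by
      rw [← Algebra.smul_def] at hB
      exact (smul_eq_zero.1 hB).resolve_left (pow_ne_zero k hu)
    have hsum : aeval g ((f * f') ^ k) = aeval g (f' ^ k) * (aeval g (f ^ k) * (1 - ε)) +
        aeval g (f ^ k) * (aeval g (f' ^ k) * ε) := by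
      rw [← h1, hεdef, ← map_mul, ← map_mul, ← map_mul, ← map_mul, ← map_add]
      congr 1
      linear_combination -(f * f') ^ k * hab
    have hcomm : aeval g (f' ^ k) * ε = ε * aeval g (f' ^ k) := by
      rw [hεdef, ← map_mul, ← map_mul, mul_comm]
    rw [hsum, hA, hcomm, hB', mul_zero, mul_zero, add_zero]
  have hfac : ∀ h, Irreducible h → h ∣ g.charpoly → f ∣ h ∨ f' ∣ h := by
    intro h hh hhg
    rcases hh.prime.dvd_or_dvd (hh.prime.dvd_of_dvd_pow (dvd_of_dvd_charpoly hh hhg hann)) with h' | h'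
    · exact Or.inl (hh.associated_of_dvd hf h').symm.dvd
    · exact Or.inr (hh.associated_of_dvd hf' h').symm.dvd
  refine ⟨f, f', hf, hfm, hf', hfm', hf0, hdeg, ⟨u, hu, huf⟩, ?_⟩
  by_cases hff : f' = f
  · subst hff
    obtain ⟨j, hj, hjn⟩ := charpoly_eq_pow_of_aeval_pow (N := 2 * k) hf hfm (by
      rwa [← sq, ← pow_mul] at hann)
    rcases Nat.even_or_odd n with he | ho
    · left
      haveI : Fact (Irreducible f) := ⟨hf⟩
      have hodd : Odd f.natDegree := (selfconj_root hF hf hf0 (by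
        have hfα : aeval (AdjoinRoot.root f) f = 0 := by rw [AdjoinRoot.aeval_eq, AdjoinRoot.mk_self]
        have hα : AdjoinRoot.root f ≠ 0 := fun h => by
          rw [h, aeval_def, eval₂_at_zero, map_eq_zero] at hfα
          exact hf0 hfα
        have h1 := aeval_rev_root hF hα hfα
        rw [huf, map_mul, aeval_C, mul_eq_zero, map_eq_zero] at h1
        exact h1.resolve_left hu)).1
      obtain ⟨t, ht⟩ : Even j := by
        rw [← hjn, Nat.even_mul] at he
        exact he.resolve_left (Nat.not_even_iff_odd.2 hodd)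
      exact ⟨t, by rw [hj, ← sq, ← pow_mul, ht, two_mul], by rw [← hjn, ht]; ring⟩
    · exact Or.inr ⟨ho, rfl, j, hj, hjn⟩
  · left
    have hco : IsCoprime f f' := (hf.coprime_iff_not_dvd).2 fun h =>
      hff (eq_of_monic_of_associated hfm' hfm (hf.associated_of_dvd hf' h).symm)
    obtain ⟨i, c₁, hc₁, hi⟩ := WfDvdMonoid.max_power_factor (Matrix.charpoly_monic g).ne_zero hf
    have hc₁m : c₁.Monic := (hfm.pow i).of_mul_monic_left (hi ▸ Matrix.charpoly_monic g)
    obtain ⟨j, c₂, hc₂, hj⟩ := WfDvdMonoid.max_power_factor hc₁m.ne_zero hf'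
    have hc₂m : c₂.Monic := (hfm'.pow j).of_mul_monic_left (hj ▸ hc₁m)
    have hc₂1 : c₂ = 1 := by
      by_contra hne
      obtain ⟨h, hh, hhc⟩ := WfDvdMonoid.exists_irreducible_factor
        (fun hu => hne (hc₂m.eq_one_of_isUnit hu)) hc₂m.ne_zero
      have hhg : h ∣ g.charpoly := hhc.trans ((dvd_mul_left c₂ _).trans (hj ▸ hi ▸ dvd_mul_left c₁ _))
      rcases hfac h hh hhg with h' | h'
      · exact hc₁ (h'.trans (hhc.trans (hj ▸ dvd_mul_left c₂ _)))
      · exact hc₂ (h'.trans hhc)
    rw [hj, hc₂1, mul_one] at hi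
    obtain ⟨w, hw, hrev⟩ := rev_charpoly hF hg
    rw [hi, rev_mul, rev_pow, rev_pow, huf, hvf] at hrev
    have hd1 : f ^ j ∣ f ^ i * f' ^ j := by
      refine (IsUnit.dvd_mul_left (isUnit_C.2 (isUnit_iff_ne_zero.2 hw))).1 ?_
      rw [← hrev, mul_pow, mul_pow]
      exact (dvd_mul_left (f ^ j) _).trans (dvd_mul_left _ _)
    have hd2 : f' ^ i ∣ f ^ i * f' ^ j := by
      refine (IsUnit.dvd_mul_left (isUnit_C.2 (isUnit_iff_ne_zero.2 hw))).1 ?_
      rw [← hrev, mul_pow, mul_pow]
      exact (dvd_mul_left (f' ^ i) _).trans (dvd_mul_right _ _)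
    have e1 := natDegree_le_of_dvd ((hco.pow (m := j) (n := j)).dvd_of_dvd_mul_right hd1) (hfm.pow i).ne_zero
    have e2 := natDegree_le_of_dvd ((hco.symm.pow (m := i) (n := i)).dvd_of_dvd_mul_left hd2) (hfm'.pow j).ne_zero
    rw [hfm.natDegree_pow, hfm.natDegree_pow] at e1
    rw [hfm'.natDegree_pow, hfm'.natDegree_pow, hdeg] at e2
    obtain rfl : i = j := le_antisymm (Nat.le_of_mul_le_mul_right e2 hf.natDegree_pos)
      (Nat.le_of_mul_le_mul_right e1 hf.natDegree_pos)
    refine ⟨i, by rw [hi, mul_pow], ?_⟩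
    have hn' := g.charpoly_natDegree_eq_dim
    rw [hi, natDegree_mul (hfm.pow i).ne_zero (hfm'.pow i).ne_zero, hfm.natDegree_pow, hfm'.natDegree_pow, hdeg,
      Fintype.card_fin] at hn'
    linarith

/-- A non-degenerate hermitian space of dimension `n` is the standard one. -/
theorem exists_transfer {V : Type*} [AddCommGroup V] [Module F V] [Module.Finite F V] {h : V → V → F}
    (H : IsHerm q h) (hnd : Nondeg h) (hn : Module.finrank F V = n) :
    ∃ Φ : Module.End F V ≃ₐ[F] Matrix (Fin n) (Fin n) F,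
      (∀ T : Module.End F V, (∀ x y, h (T x) (T y) = h x y) → IsUnitary q (Φ T)) ∧
      (∀ T T' : Module.End F V, (∀ x y, h (T x) y = h x (T' y)) → adj hF (Φ T) = Φ T') ∧
      ∀ T : Module.End F V, (Φ T).det = LinearMap.det T := by
  classical
  subst hn
  obtain ⟨b, hb⟩ := exists_orthonormalBasis hF H hnd
  let B := basisOfLinearIndependentOfCardEqFinrank' b (hb.linearIndependent H) (Fintype.card_fin _)
  let e := B.equivFun
  have he : ∀ u v, h (e.symm u) (e.symm v) = Cfsg.hermForm _ F q u v := by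
    intro u v
    simp only [e, Module.Basis.equivFun_symm_apply, B, coe_basisOfLinearIndependentOfCardEqFinrank']
    exact hb.inner_sum hF H u v
  let Φ : Module.End F V ≃ₐ[F] Matrix (Fin (Module.finrank F V)) (Fin (Module.finrank F V)) F :=
    (e.conjAlgEquiv F).trans LinearMap.toMatrixAlgEquiv'
  have hΦ : ∀ T u, e.symm (Φ T *ᵥ u) = T (e.symm u) := by
    intro T u
    show e.symm (LinearMap.toMatrix' (e.toLinearMap ∘ₗ T ∘ₗ e.symm.toLinearMap) *ᵥ u) = _
    rw [LinearMap.toMatrix'_mulVec]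
    simp
  refine ⟨Φ, fun T hT u v => ?_, fun T T' hT => ?_, fun T => ?_⟩
  · rw [← he, hΦ, hΦ, hT, he]
  · exact adj_eq_of_forall hF fun u v => by rw [← he, ← he, hΦ, hΦ, hT]
  · show (LinearMap.toMatrix' (e.toLinearMap ∘ₗ T ∘ₗ e.symm.toLinearMap)).det = _
    rw [LinearMap.det_toMatrix', LinearMap.det_conj]

end

end Cfsg.Agent.LinSpec
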